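import Mathlib
import Cfsg.Agent.Lib.Leech.OutCo
import Cfsg.Agent.Lib.MonType.Cross

/-!
The monomial subgroup of Co2 and one more generator (helper7).
-/

set_option autoImplicit false
set_option maxRecDepth 100000
set_option exponentiation.threshold 700

namespace H7.B4

open Cfsg H15 H16 H95
open scoped symmDiff Pointwise

/-- the element is monomial with the given permutation and signs -/
def IsMo (g : Stab vU) (σ : Equiv.Perm GolayPt) (d : Finset GolayPt) : Prop :=
  ∃ (hσ : σ ∈ M24) (hd : d ∈ code), (g : Co0) = mono σ hσ d hd

theorem U_apply (p : GolayPt) : (vU : GolayPt → ℤ) p = if p = none ∨ p = some 0 then 4 else 0 := by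
  rw [← code_U.2]; revert p; decide +kernel

variable {g h : Stab vU} {σ τ : Equiv.Perm GolayPt} {c d : Finset GolayPt}

theorem IsMo.mul (a : IsMo g σ c) (b : IsMo h τ d) : IsMo (g * h) (σ * τ) (c ∆ (σ • d)) := by
  obtain ⟨h1, h2, e⟩ := a
  obtain ⟨h3, h4, f⟩ := b
  exact ⟨_, _, by rw [Subgroup.coe_mul, e, f, mono_mul]⟩

theorem IsMo.eq (a : IsMo g σ c) (b : IsMo h σ c) : g = h := by
  obtain ⟨h1, h2, e⟩ := a
  obtain ⟨h3, h4, f⟩ := b
  exact Subtype.ext (e.trans f.symm)

theorem IsMo.U (a : IsMo g σ d) : none ∉ d ∧ some 0 ∉ d ∧
    ((σ none = none ∧ σ (some 0) = some 0) ∨ (σ none = some 0 ∧ σ (some 0) = none)) := by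
  obtain ⟨h1, h2, e⟩ := a
  have u : mono σ h1 d h2 • vU = vU := e ▸ g.2
  have k : ∀ i, (i = none ∨ i = some 0) → σ i ∉ d ∧ (σ i = none ∨ σ i = some 0) := fun i hi => by
    have := mono_smul_apply h1 h2 vU i
    rw [u, U_apply, U_apply, if_pos hi] at this
    split_ifs at this with p q q <;> first | omega | exact ⟨q, p⟩
  obtain ⟨a1, a2⟩ := k none (Or.inl rfl)
  obtain ⟨b1, b2⟩ := k (some 0) (Or.inr rfl)
  have n : σ none ≠ σ (some 0) := σ.injective.ne (by simp)
  rcases a2 with a2 | a2 <;> rcases b2 with b2 | b2
  · exact absurd (a2.trans b2.symm) n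
  · exact ⟨a2 ▸ a1, b2 ▸ b1, Or.inl ⟨a2, b2⟩⟩
  · exact ⟨b2 ▸ b1, a2 ▸ a1, Or.inr ⟨a2, b2⟩⟩
  · exact absurd (a2.trans b2.symm) n

theorem exists_isMo (hσ : σ ∈ M24) (hd : d ∈ code) (h1 : none ∉ d) (h2 : some 0 ∉ d)
    (h3 : σ none = none) (h4 : σ (some 0) = some 0) : ∃ g, IsMo g σ d := by
  refine ⟨⟨mono σ hσ d hd, Subtype.ext (funext fun k => ?_)⟩, hσ, hd, rfl⟩
  obtain ⟨k, rfl⟩ := σ.surjective k
  have a : σ k = none ∨ σ k = some 0 ↔ k = none ∨ k = some 0 := by
    nth_rewrite 1 [← h3, ← h4]
    simp only [EmbeddingLike.apply_eq_iff_eq]
  rw [mono_smul_apply, U_apply, U_apply]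
  by_cases b : k = none ∨ k = some 0
  · rw [if_pos (a.2 b), if_pos b, if_neg]
    rcases b with rfl | rfl
    exacts [h3.symm ▸ h1, h4.symm ▸ h2]
  · rw [if_neg (mt a.1 b), if_neg b]; simp

theorem isMo_of_mem (h : (g : Co0) ∈ monoGroup) : ∃ σ d, IsMo g σ d := by
  obtain ⟨σ, hσ, d, hd, e⟩ := h
  exact ⟨σ, d, hσ, hd, e⟩

theorem IsMo.mem (a : IsMo g σ d) : (g : Co0) ∈ monoGroup := by
  obtain ⟨h1, h2, e⟩ := a
  exact e ▸ mono_mem h1 h2

/-- the code words avoiding the two special points -/
def EC : Type := {c : Finset GolayPt // c ∈ code ∧ none ∉ c ∧ some 0 ∉ c}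

instance instFiniteEC : Finite EC := Subtype.finite

/-- the sign change -/
noncomputable def ee (c : EC) : Stab vU :=
  (exists_isMo (one_mem _) c.2.1 c.2.2.1 c.2.2.2 rfl rfl).choose

theorem isMo_ee (c : EC) : IsMo (ee c) 1 c.1 :=
  (exists_isMo (one_mem _) c.2.1 c.2.2.1 c.2.2.2 rfl rfl).choose_spec

theorem coe_ee (c : EC) : (ee c : Co0) = eps c.1 c.2.1 := (isMo_ee c).choose_spec.choose_spec

/-- the sum of two words -/
def EC.add (a b : EC) : EC := ⟨a.1 ∆ b.1, symmDiff_mem_code a.2.1 b.2.1,
  by simp [Finset.mem_symmDiff, a.2.2.1, b.2.2.1], by simp [Finset.mem_symmDiff, a.2.2.2, b.2.2.2]⟩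

theorem ee_mul (a b : EC) : ee a * ee b = ee (a.add b) :=
  Subtype.ext (by rw [Subgroup.coe_mul, coe_ee, coe_ee, coe_ee, eps_mul_eps]; rfl)

theorem ee_sq (a : EC) : ee a * ee a = 1 :=
  Subtype.ext (by rw [Subgroup.coe_mul, coe_ee, eps_mul_self]; rfl)

theorem ee_comm (a b : EC) : ee a * ee b = ee b * ee a := by
  rw [ee_mul, ee_mul]; exact congrArg ee (Subtype.ext (symmDiff_comm _ _))

theorem exists_ee (h : (g : Co0) ∈ epsGroup) : ∃ c, g = ee c := by
  obtain ⟨c, hc, e⟩ := h
  have a : IsMo g 1 c := ⟨one_mem _, hc, e⟩
  exact ⟨⟨c, hc, a.U.1, a.U.2.1⟩, a.eq (isMo_ee _)⟩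

theorem ee_mem (c : EC) : (ee c : Co0) ∈ epsGroup := ⟨_, _, coe_ee c⟩

theorem IsMo.ee_mul (a : IsMo g σ d) (c : EC) : ∃ c' : EC, σ • c'.1 = c.1 ∧ ee c * g = g * ee c' := by
  have hσ := a.choose
  have u := a.U.2.2
  have m : ∀ i, i ∈ σ⁻¹ • c.1 ↔ σ i ∈ c.1 := mem_inv_smul σ c.1
  obtain ⟨c', e⟩ : ∃ c' : EC, σ • c'.1 = c.1 := by
    refine ⟨⟨σ⁻¹ • c.1, smul_mem_code (inv_mem hσ) c.2.1, ?_, ?_⟩, smul_inv_smul _ _⟩
    · rw [m]; rcases u with u | u <;> rw [u.1]; exacts [c.2.2.1, c.2.2.2]
    · rw [m]; rcases u with u | u <;> rw [u.2]; exacts [c.2.2.2, c.2.2.1]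
  refine ⟨c', e, ?_⟩
  have h1 := (isMo_ee c).mul a
  have h2 := a.mul (isMo_ee c')
  rw [one_mul, one_smul] at h1
  rw [mul_one, e, symmDiff_comm] at h2
  exact h1.eq h2

/-- the permutations fixing the two special points -/
noncomputable def pm : ↥(M24 ⊓ St (none : GolayPt) ⊓ St (some 0 : GolayPt)) →* Stab vU :=
  (permHom.comp (Subgroup.inclusion (inf_le_left.trans inf_le_left))).codRestrict _ fun σ => by
    obtain ⟨g, h1, h2, e⟩ := exists_isMo σ.2.1.1 empty_mem_code (Finset.notMem_empty _)
      (Finset.notMem_empty _) σ.2.1.2 σ.2.2
    exact (e ▸ g.2 : mono σ h1 ∅ h2 ∈ Stab vU)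

theorem isMo_pm (σ : ↥(M24 ⊓ St (none : GolayPt) ⊓ St (some 0 : GolayPt))) : IsMo (pm σ) σ ∅ :=
  ⟨σ.2.1.1, empty_mem_code, rfl⟩

theorem IsMo.split (a : IsMo g σ d) (h1 : σ none = none) (h2 : σ (some 0) = some 0) :
    g = ee ⟨d, a.choose_spec.choose, a.U.1, a.U.2.1⟩ * pm ⟨σ, ⟨a.choose, h1⟩, h2⟩ := by
  refine a.eq ?_
  have := (isMo_ee ⟨d, a.choose_spec.choose, a.U.1, a.U.2.1⟩).mul (isMo_pm ⟨σ, ⟨a.choose, h1⟩, h2⟩)
  rwa [one_mul, one_smul, ← Finset.bot_eq_empty, symmDiff_bot] at this

/-! ### explicit elements -/

/-- a word given by a mask -/
def em (m : ℕ) (h : (isCode m && !m.testBit 23 && !m.testBit 0) = true := by decide +kernel) : EC :=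
  ⟨ofMask m, by
    simp only [Bool.and_eq_true, Bool.not_eq_true'] at h
    exact ⟨ofMask_mem_of_isCode h.1.1, by rw [mem_ofMask]; simpa [idx] using h.1.2,
      by rw [mem_ofMask]; simpa [idx] using h.2⟩⟩

theorem isM_em (m : ℕ) (h : (isCode m && !m.testBit 23 && !m.testBit 0) = true) :
    IsM (epsM m) (ee (em m h) : Co0) := by
  rw [coe_ee]
  simp only [Bool.and_eq_true] at h
  exact isM_eps h.1.1

/-- code of a monomial element -/
def moM (p c : ℕ) : ℕ := mulM (epsM c) (permM p)

/-- test for a monomial element of Co2 -/
def okMo (p c : ℕ) : Bool := inM24 p && isCode c && Nat.beq (app (matR (moM p c)) UC) UC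

theorem exists_mo {p c : ℕ} (h : okMo p c = true) :
    ∃ g : Stab vU, IsMo g (permOf p) (ofMask c) ∧ IsM (moM p c) (g : Co0) := by
  simp only [okMo, Bool.and_eq_true, Nat.beq_eq] at h
  have a := (isM_eps h.1.2).mul (isM_perm h.1.1)
  exact ⟨⟨_, a.isR.smul_eq code_U code_U (by rw [norm_U]; norm_num) h.2⟩,
    ⟨permOf_mem_M24 h.1.1, ofMask_mem_of_isCode h.1.2, (mono_eq_eps_mul _ _).symm⟩, a⟩

/-- the matrix of the extra generator -/
def xiP : ℕ := 0x1400100010001000100010001000100010001000100010001000100010001000100010001000100010000c000c00140010000c00100010001000100010000c00100010001400100010001000100010001000100010001400100010001000100010001000140010001400100010001000100010001000100010001000100010000c000c001000100010001000100010001000100010001400100010001000100014001000100010001000140014001000100010001000100010001000100010001000100014001000140010001000100010001000100010001000100010001000140014001000100010001000100010001000100010001000100014001000100010001000100014001400100010001400100010001000100010001000100010001000100010001000100010001400100010001400100010001000100010001000100010000c0010000c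0010001000100010000c00100010001000100010000c00100010000c00100010001000100010001000100010000c00100010001000100010001000100014001000100010001000140010001000100010000c000c0010001000100010001000100010001000100010001000100010001000100014001000100014001000100010001000100010001000100014001000140010001000100010001400100010001000100010000c00100010000c0010001000100010001000100010001000140010001000100010001000100010001000100014001000100010001000100014000c00100010000c0010001000100010001000100010001000100010001000100010001400100010001000100010000c001400100010000c0010001000100010001000100010001000100010001000140010001000100010000c00100010001000100014000c00100010001000100010001000100010001000100010001000140010001000100010000c0010001000100010000c001400100010001000100010001000100010001000100010001000100010001400100010001000100010000c000c0010001000140010001000100010001000100010001000100010000c00100014001000100010001000100010001000100010001000100014000c00100010001000100010001000100010000c0010001400100010001000100010001000100010001000100010000c0014001000100010001000100010001000100010001000100010000c0010001000140010001000100010001000100010001000140010000c0010001000100010001400100010001000100010000c00100010001400100010001000100010001000100010000c0010001000100010001000100010001000100010000c00100010001400100010001000100010001000100010000c00100014001000100010000c001000100010001000100010001000100010001000100010001000100010001000100010001000100014000c0014000c00100010001000100010001000100010001000100010001000100010001000100010001000100010000c00140014001400100010001000100010001000100010001000100010001000100010001000100010001000100010001400140014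

theorem xi_ok : okM xiP = true := by decide +kernel

/-- the extra generator -/
noncomputable def xi : Stab vU :=
  ⟨el xiP, el_smul xi_ok code_U code_U (by rw [norm_U]; norm_num) (by decide +kernel)⟩

theorem isM_xi : IsM xiP (xi : Co0) := isM_el xi_ok

theorem xi_sq : xi * xi = 1 :=
  Subtype.ext ((isM_xi.mul isM_xi).eq_el ((show oneM = mulM xiP xiP by decide +kernel) ▸ isM_one))

theorem xi_comm (m : ℕ) (h : (isCode m && !m.testBit 23 && !m.testBit 0) = true)
    (e : mulM xiP (epsM m) = mulM (epsM m) xiP) : xi * ee (em m h) = ee (em m h) * xi := by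
  have a := isM_xi.mul (isM_em m h)
  rw [e] at a
  exact Subtype.ext (a.eq_el ((isM_em m h).mul isM_xi))

theorem xi_ta : xi * ee (em 3704512) = ee (em 3704512) * xi := xi_comm _ _ (by decide +kernel)
theorem xi_tb : xi * ee (em 4415544) = ee (em 4415544) * xi := xi_comm _ _ (by decide +kernel)
theorem xi_tc : xi * ee (em 4536592) = ee (em 4536592) * xi := xi_comm _ _ (by decide +kernel)

theorem xi_cube : ee (em 4845570) * xi * (ee (em 4845570) * xi) * (ee (em 4845570) * xi) = 1 := by
  have a := (isM_em 4845570 (by decide +kernel)).mul isM_xi
  exact Subtype.ext (((a.mul a).mul a).eq_el ((show oneM = mulM (mulM (mulM (epsM 4845570) xiP)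
    (mulM (epsM 4845570) xiP)) (mulM (epsM 4845570) xiP) by decide +kernel) ▸ isM_one))

/-- the permutation of the conjugate of a sign change -/
def kP : ℕ := 21647169741103660076458455793304663

theorem isMo_k : IsMo (xi * ee (em 421910) * xi) (permOf kP) (ofMask 416040) := by
  obtain ⟨g, h1, h2⟩ := exists_mo (p := kP) (c := 416040) (by decide +kernel)
  have a := (isM_xi.mul (isM_em 421910 (by decide +kernel))).mul isM_xi
  rw [show mulM (mulM xiP (epsM 421910)) xiP = moM kP 416040 by decide +kernel] at a
  exact (Subtype.ext (h2.eq_el a) : g = xi * ee (em 421910) * xi) ▸ h1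

theorem k_val : permOf kP none = some 0 ∧ permOf kP (some 0) = none ∧ permOf kP (some 1) = some 2 ∧
    permOf kP (some 2) = some 1 ∧ permOf kP (some 6) = some 6 := by
  simp only [permOf_apply (show okP kP = true by decide +kernel)]
  decide +kernel

/-- the conjugate is monomial -/
def cjOk (P : ℕ) : Bool := force (col (mulM (mulM xiP P) xiP) 3) fun a =>
  anyLt 24 fun j => Nat.beq a (e8C j) || Nat.beq a (negC (e8C j))

theorem cj_mem {P : ℕ} (h : IsM P (g : Co0)) (e : cjOk P = true) :
    ((xi * g * xi : Stab vU) : Co0) ∈ monoGroup := by
  have a := ((isM_xi.mul h).mul isM_xi).2 3 (by norm_num)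
  simp only [cjOk, force_eq, anyLt_iff, Bool.or_eq_true, Nat.beq_eq] at e
  obtain ⟨j, hj, e | e⟩ := e <;> rw [e] at a
  · exact mem_monoGroup_of_e8 (Or.inl (a.eq_vec (code_e8C hj)))
  · exact mem_monoGroup_of_e8 (Or.inr (a.eq_vec ((code_e8C hj).neg (by rw [sqNorm_e8]; norm_num))))

/-- the tetrad -/
def Tet : Finset GolayPt := {none, some 0, some 1, some 2}

theorem sep {i j : GolayPt} (hi : i ∉ Tet) (hj : j ≠ some 0) (h : j ≠ i) : ∃ c : EC,
    ((xi * ee c * xi : Stab vU) : Co0) ∈ monoGroup ∧ ¬ (i ∈ c.1 ↔ j ∈ c.1) := by
  have a : ∀ m ∈ [10558, 36294, 84464, 138790, 280334, 545190, 1070536, 2101096, 4202192],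
      (isCode m && !m.testBit 23 && !m.testBit 0) = true ∧ cjOk (epsM m) = true := by decide +kernel
  obtain ⟨m, hm, e⟩ : ∃ m ∈ [10558, 36294, 84464, 138790, 280334, 545190, 1070536, 2101096, 4202192],
      m.testBit (idx i) ≠ m.testBit (idx j) := by
    revert i j; decide +kernel
  refine ⟨em m (a m hm).1, cj_mem (isM_em m _) (a m hm).2, ?_⟩
  simp only [em, mem_ofMask]
  exact fun f => e (Bool.eq_iff_iff.2 f)

theorem const20 {α : Type*} (f : GolayPt → α) (h : ∀ g σ d, IsMo g σ d →
    ((xi * g * xi : Stab vU) : Co0) ∈ monoGroup → ∀ i, i ∉ Tet → σ i ∉ Tet → f (σ i) = f i) :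
    ∀ i, i ∉ Tet → f i = f (some 3) := by
  let p : ℕ → ℕ := fun k =>
    [960987272459175447151156754424432672, 979664649077166684931923499319691296].getD k 0
  have k : ∀ k < 2, okP (p k) = true ∧ okMo (p k) ([1852256, 5405696].getD k 0) = true ∧
      cjOk (moM (p k) ([1852256, 5405696].getD k 0)) = true ∧
      ∀ i, i ∉ Tet → pt (ap (p k) (idx i)) ∉ Tet := by decide +kernel
  have s : ∀ w : List ℕ, (∀ a ∈ w, a < 2) → w.foldr (fun a i => pt (ap (p a) (idx i))) (some 3) ∉ Tet ∧
      f (w.foldr (fun a i => pt (ap (p a) (idx i))) (some 3)) = f (some 3) := fun w => by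
    induction w with
    | nil => exact fun _ => ⟨by decide, rfl⟩
    | cons a w ih =>
      intro hw
      obtain ⟨h1, h2⟩ := ih fun b hb => hw b (List.mem_cons_of_mem _ hb)
      obtain ⟨k1, k2, k3, k4⟩ := k a (hw a List.mem_cons_self)
      obtain ⟨g, g1, g2⟩ := exists_mo k2
      have := h g _ _ g1 (cj_mem g2 k3) _ h1
      rw [permOf_apply k1] at this
      exact ⟨k4 _ h1, (this (k4 _ h1)).trans h2⟩
  intro i hi
  obtain ⟨w, -, h1, h2⟩ : ∃ w ∈ [[], [0, 1, 0], [0, 1], [1, 1, 0, 1], [1, 0, 0], [0, 1, 1, 0], [0, 1, 1],
      [0, 0], [1, 0, 1, 0], [1, 0, 0, 1, 0], [0, 0, 1, 0], [0, 1, 0, 1], [1, 0, 1], [1, 1, 0, 0],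
      [1, 1, 1, 0], [1, 1, 0], [1, 1], [1], [0], [1, 0]], (∀ a ∈ w, a < 2) ∧
      w.foldr (fun a i => pt (ap (p a) (idx i))) (some 3) = i := by
    revert i; decide +kernel
  exact h2 ▸ (s w h1).2

theorem gen {A : Subgroup (Stab vU)} (hM : ∀ g σ d, IsMo g σ d → g ∈ A) (hx : xi ∈ A) : A = ⊤ := by
  obtain ⟨a, a1, a2⟩ := exists_mo (p := 970166618412797675759415642776249760) (c := 2615604)
    (by decide +kernel)
  obtain ⟨b, b1, b2⟩ := exists_mo (p := 22686040422932408251959532632856887) (c := 5350928)
    (by decide +kernel)
  obtain ⟨c, c1, c2⟩ := exists_mo (p := 968446488837524396638387741096693984) (c := 3617082)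
    (by decide +kernel)
  obtain ⟨d, d1, d2⟩ := exists_mo (p := betaC) (c := 0) (by decide +kernel)
  obtain ⟨e, e1, e2⟩ := exists_mo (p := gammaC) (c := 0) (by decide +kernel)
  have k := (((a2.mul isM_xi).mul b2).mul isM_xi).mul c2
  rw [show mulM (mulM (mulM (mulM (moM 970166618412797675759415642776249760 2615604) xiP)
    (moM 22686040422932408251959532632856887 5350928)) xiP)
    (moM 968446488837524396638387741096693984 3617082) = k23P by decide +kernel] at k
  rw [show moM betaC 0 = permM betaC by decide +kernel] at d2
  rw [show moM gammaC 0 = permM gammaC by decide +kernel] at e2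
  rw [eq_top_iff]
  intro g _
  obtain ⟨x, hx, f⟩ := co2_gen (H := A.map (Stab vU).subtype)
    ⟨_, mul_mem (mul_mem (mul_mem (mul_mem (hM _ _ _ a1) hx) (hM _ _ _ b1)) hx) (hM _ _ _ c1),
      k.eq_el isM_k23⟩ ⟨_, hM _ _ _ d1, d2.eq_el isM_h11⟩ ⟨_, hM _ _ _ e1, e2.eq_el isM_hγ⟩ g.2
  exact (Subtype.ext f : x = g) ▸ hx

/-! ### characters of the sign changes -/

/-- a systematic basis -/
def SB : List ℕ := [4845570, 3610628, 7221256, 7903248, 5621792, 1009728, 2019456, 4038912, 8077824, 5405696]

/-- small sets with prescribed parities -/
def TAB : ℕ := 0x2808001100401100201100010004210004000411010004408084002012000410801101000410410005000410000410208040402011008040008040244000044000244000400c080020102020100080410020104440010020108004120100c0010000a10000840018010000c1000021000001000061000040808000808020808044080201000121000102010201000140013001000280804404080101000221000202010101000240808204080044080024080002010041000302010002010020280000280020280042008100280081000c004120000c02001040820080420080220080001040001040201040420080802802020044000221000c00844008000c00400c00200c00000220408100800220000220208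100208100000220808100440010410008840010040010210008210008040010810008404402001210040011006000801044006000406000206000020040220040001080820040401080420040801080001080204400004400204400440808004400808104001081006002010240002003000401801110000401410014000401000401202002202002000400800400a00400400400600400000400202001202001008050002001420208002001800403008204002000202000002000602000402000a020008004020004022400084100108400080400082100102100100400088100104080900020060004048300200004044100110004040004042001200001202001204082008001208082004082002082000020042020040050400020044108080020048004060082010400044000a08400040400042000a02000a00400048000a041802000200a0004088200900004084000a100040800040822020081400041400021400002020002020022020041400080200820200800023000200842020100200880040a000064040000440000640000040000240000c000a4040000840000a01200201200040001040001210802001200840001800062040002420050040002040002210801005100040002800061010800801202040003000060810800010800200060200060020400020400220400400a1002040081002400084404800100404020404000020a00404040088204800044800024800002040204100800020902200080088102200042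200022200000020840404200020800020820088000088020088042200100011201002080084080408201002021002000084000084020300040404400300000300026000801002100300084800400011000011020408020408000011080140100084200408080011100140080300200408100140020140002012000140042040800009080410080840400009020009000410000410020020240090400020200020226000400009100020284800804100024100000020100020120a004041000800201822008000200400200600200000200200200c08120000200800200a002c000840040840020840006000100009400410400840080090020090000020600090046000006000026000040005200a00084100400020500840200a00000a00020a00040005100020440090200020400020420a001000050400050200050000106000a00400a00200a00000088200088000421000088418008002022000420800a01000420400089000420000420200104000104200104400a0201100040008a01100001100020202020202000021800202040089000202081100100004c00010200010220010243000100010280008c000850002500004200830000430000230000004200004200204200430000800100000100200100400100600100800100a00100c00049000101000101200101400048800101800048400048200048000080a00080840024000080c000802000800000806000804180000180002180004421000000812000810004280000814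0010c000082800211014020000082200082011008000082400210402028000210000210240500000044400044200044040020400084840020040020200084200084040020800084418004000910040021000042804208000042400042200042000108000108200108400041800108800041400041200041000109000040c00040a00040800040600040400040200040008002404021008002008002201009010044008002840208004020204020008003004020401008001008201008410082008000408000608000008000208000c01810008000808000a0800140402200800100800120100a01008041008021008000610001004080082080060101004021004000082000082022081000060040060020060000220201004100082100060082000822000800800400800420220102000880800480450000220082000900800500060200220000220020220041008400100182000600800a040200801001001001240200240200001000801000a01000c08810001000001000201000401000620004220004008008008008201003020004808008840202001002820005008009044100001002001002201002400034020002220002010101020002401005020002800828040204010100420003010100010100201004001004201004400032020000220000020000620000420000a200008010c0020000c20001220001010102020001401006000030400030200030010200010200210200424000810200824000424000224000010201002042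00044080880800044044010400044000044020801040180080801000801020180020180000801080180040204020204000801100204042802000204080044200002c02080100208040208020208000048204010100083000208082080002080022080040208104010024010000044404010040048082001800500100208200048000048020048040002900500040204400500000500020048100002840002820002800050020050004004400050040101100050080210202400800101080880040880020880000101000101020101040880084008100050200210081404000210040180800210000210024008004008024008040002484008080002440002420002404004042001204004004004020c00000c00020c00040002302080800124004004100002280c00100002240002220002202001022001004004202001040c002000021400021200021040084000020c00020a00020800020600020400020200020004001204001000804804001400804404001800804000804204000204000004000604000404000a04000800805004000c0802040030080802000802020030020030000802080030040400220400200802100400242801000400284110000001c000800c04005000800800800a008004008006008000008002040042040040008018040044008014040048008010008012500010200280008028040c000080240030400080200080225000005000025000040001885000080001840001820001800028401200041200021200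00010210000d000080c01200080400820400800024200400840102000102020102040001601040082002400024101200201040001040021040040001500024040400a00024000024021040100001440001420001400028000028020028041200400080840310000080800080820028100400c010120000012801024000012400012200012020020220020001500020020410404000011400011200011050008000010c00010a0001080001060001040001020001004200080401100018104040204200004200024200042402000401020401000018000018024200100401080018080000e00014404040044040024040002800100031001104004040082800080401200018200000c82800002800020000c20000c00900020900000081080900040081040900080081000081020240800900100018400000a80424000000a40000a20000a000140000140200140400009800140800009400009200009000141000008c00008a000088000086000084000082000080210004000c08210000210002000c02000c00210008000c0402404004018021001000006801030000006400006200006004800004800204800400005804800800005400005200005004801000004c00004a0000480000460000440000420000400240100900802100400000380c020000003400003200003002400002400200002a00002800002600002400002200002004804000001c00001a00001800001600001400001200001000000e00000c00000a000008000006000004000002000000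

/-- entry of the table -/
def tab (t : ℕ) : ℕ := Nat.land (Nat.shiftRight TAB (Nat.mul 24 t)) 16777215

theorem tab_chk : allLt2 32 32 (fun t => force (tab t) fun y => Nat.ble (wt y) 3 && !bit y 23 && !bit y 0 &&
    allLt 10 fun k => Nat.beq (wt (Nat.land (SB.getD k 0) y) % 2) (cond (bit t k) 1 0)) = true := by
  decide +kernel

theorem sb_chk : allLt2 64 64 (fun u => force (cw u) fun c => bit c 0 || bit c 23 ||
    Nat.beq c (encL SB (Nat.land (Nat.shiftRight u 1) 1023))) = true := by decide +kernel

theorem EC.induction {P : EC → Prop} (h0 : ∀ c : EC, c.1 = ∅ → P c) (hx : ∀ a b, P a → P b → P (a.add b))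
    (hb : ∀ k < 10, ∀ c : EC, c.1 = ofMask (SB.getD k 0) → P c) (c : EC) : P c := by
  obtain ⟨u, hu, e⟩ := exists_cw_of_mem_codeSets c.2.1
  have a := allLt2_iff.1 sb_chk u hu
  have a1 := c.2.2.1
  have a2 := c.2.2.2
  rw [← e, mem_ofMask] at a1 a2
  simp only [force_eq, Bool.or_eq_true, bit_eq, Nat.beq_eq] at a
  have a3 := (a.resolve_left (not_or.2 ⟨a2, a1⟩))
  have := encL_induction (P := fun m => ∃ c : EC, c.1 = ofMask m ∧ P c)
    ⟨⟨∅, empty_mem_code, Finset.notMem_empty _, Finset.notMem_empty _⟩, ofMask_zero.symm, h0 _ rfl⟩
    (by
      rintro a b ⟨x, x1, x2⟩ ⟨y, y1, y2⟩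
      exact ⟨x.add y, by rw [ofMask_xor', ← x1, ← y1]; rfl, hx _ _ x2 y2⟩) SB (fun b hb' => by
      obtain ⟨k, hk, rfl, f⟩ : ∃ k < 10, SB.getD k 0 = b ∧
          (isCode b && !b.testBit 23 && !b.testBit 0) = true := by
        revert b; decide +kernel
      exact ⟨em _ f, rfl, hb k hk _ rfl⟩) (Nat.land (Nat.shiftRight u 1) 1023)
  obtain ⟨x, x1, x2⟩ := this
  exact (Subtype.ext (by rw [x1, ← a3, e]) : x = c) ▸ x2

/-- every character of the group of sign changes is given by a set of at most three points -/
theorem exists_small (P : EC → Prop) (h0 : ∀ c : EC, c.1 = ∅ → P c)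
    (hx : ∀ a b, P (a.add b) ↔ (P a ↔ P b)) : ∃ Y : Finset GolayPt, Y.card ≤ 3 ∧ none ∉ Y ∧ some 0 ∉ Y ∧
      ∀ c, P c ↔ Even (c.1 ∩ Y).card := by
  classical
  let f : ℕ → Bool := fun k => decide (∃ c : EC, c.1 = ofMask (SB.getD k 0) ∧ ¬ P c)
  have a := allLt2_iff.1 tab_chk (maskF f 10) (maskF_lt f 10)
  simp only [force_eq, Bool.and_eq_true, Nat.ble_eq, Bool.not_eq_true', bit_eq, allLt_iff, Nat.beq_eq] at a
  obtain ⟨⟨⟨a1, a2⟩, a3⟩, a4⟩ := a
  refine ⟨ofMask (tab (maskF f 10)), by rw [card_ofMask]; exact a1,
    by rw [mem_ofMask]; simpa [idx] using a2, by rw [mem_ofMask]; simpa [idx] using a3,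
    EC.induction (fun c e => by simp [e, h0 c e]) (fun a b ha hb => ?_) fun k hk c e => ?_⟩
  · rw [hx, ha, hb]
    have := H16.card_symmDiff_add (a.1 ∩ ofMask (tab (maskF f 10))) (b.1 ∩ ofMask (tab (maskF f 10)))
    rw [← Finset.inf_eq_inter, ← Finset.inf_eq_inter, ← inf_symmDiff_distrib_right] at this
    simp only [Finset.inf_eq_inter] at this
    change _ ↔ Even ((a.1 ∆ b.1) ∩ _).card
    simp only [Nat.even_iff]
    omega
  · have b := a4 k hk
    rw [testBit_maskF, decide_eq_true hk, Bool.true_and] at b
    rw [e, ← ofMask_land, card_ofMask, Nat.even_iff, b]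
    by_cases p : P c
    · rw [show f k = false from decide_eq_false fun ⟨x, x1, x2⟩ =>
        x2 ((Subtype.ext (e.trans x1.symm) : c = x) ▸ p)]
      simp [p]
    · rw [show f k = true from decide_eq_true ⟨c, e, p⟩]
      simp [p]

theorem exists_single {S : Finset GolayPt} {p : GolayPt} (hS : (S.erase p).card ≤ 4) (h1 : p ≠ none)
    (h2 : p ≠ some 0) :
    ∃ c : EC, p ∈ c.1 ∧ ∀ q ∈ S, q ∈ c.1 → q = p := by
  obtain ⟨c, hc, e⟩ := exists_code_inter_eq_of_card_lt (insert none (insert (some 0) (insert p (S.erase p))))
    {p} (by simp) (by
      have a := Finset.card_insert_le none (insert (some 0) (insert p (S.erase p)))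
      have b := Finset.card_insert_le (some 0) (insert p (S.erase p))
      have c := Finset.card_insert_le p (S.erase p)
      omega)
  have m : ∀ q, q ∈ c ∧ (q = none ∨ q = some 0 ∨ q = p ∨ q ≠ p ∧ q ∈ S) ↔ q = p := fun q => by
    simpa using Finset.ext_iff.1 e q
  exact ⟨⟨c, hc, fun a => h1 ((m _).1 ⟨a, Or.inl rfl⟩).symm,
    fun a => h2 ((m _).1 ⟨a, Or.inr (Or.inl rfl)⟩).symm⟩, ((m p).2 rfl).1, fun q hq a => by
      by_contra n
      exact n ((m q).1 ⟨a, Or.inr (Or.inr (Or.inr ⟨n, hq⟩))⟩)⟩

end H7.B4
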