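import Mathlib
import Cfsg.Agent.Lib.MonOrd.Baby
import Cfsg.Agent.Lib.BRec.Top

/-!
The Baby Monster has a faithful representation of degree 4371 over every field (helper7).
-/

set_option autoImplicit false

namespace H7.B4

open Cfsg Finset H16 H95 H95.Gr H95.Maj Subgroup Matrix

theorem finrank_gram {F ι V : Type*} [Field F] [Finite ι] [AddCommGroup V] [Module ℝ V]
    [FiniteDimensional ℝ V] (B : LinearMap.BilinForm ℝ V) (β : ι → V) (k : ι → ι → ℤ)
    (hk : ∀ i j, B (β i) (β j) = k i j) (hs : ∀ i j, k i j = k j i) : Module.finrank F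
      (Submodule.span F (Set.range fun i j => (k i j : F))) ≤ Module.finrank ℝ V := by
  classical
  obtain ⟨κ, a, ha, h1, h2⟩ := exists_linearIndependent' F fun i j => (k i j : F)
  have := Finite.of_injective a ha
  have := Fintype.ofFinite κ
  rw [← h1, finrank_span_eq_card h2]
  let M : Matrix κ κ ℤ := of fun i j => k (a i) (a j)
  have h3 : (M.det : F) ≠ 0 := fun e => by
    rw [Int.cast_det] at e
    obtain ⟨c, hc, e⟩ := exists_vecMul_eq_zero_iff.2 e
    refine hc (funext (Fintype.linearIndependent_iff.1 h2 c (funext fun y => ?_)))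
    obtain ⟨d, hd⟩ := (Submodule.mem_span_range_iff_exists_fun _).1
      (h1.ge (Submodule.subset_span ⟨y, rfl⟩))
    have h4 : ∀ i, (k (a i) y : F) = ∑ j, d j * k (a i) (a j) := fun i => by
      simpa [hs (a i)] using (congrFun hd (a i)).symm
    have h5 : ∀ j, ∑ i, c i * k (a i) (a j) = 0 := fun j => by
      simpa [vecMul, dotProduct, M] using congrFun e j
    simp only [Finset.sum_apply, Pi.smul_apply, Function.comp, smul_eq_mul, h4, mul_sum,
      mul_left_comm (c _), Pi.zero_apply]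
    rw [sum_comm]
    simp only [← mul_sum, h5, mul_zero, sum_const_zero]
  have h4 : LinearIndependent ℝ (β ∘ a) := Fintype.linearIndependent_iff.2 fun c hc => congrFun (by
    by_contra h
    have : (M.det : ℝ) = 0 := by
      rw [Int.cast_det]
      refine exists_vecMul_eq_zero_iff.1 ⟨c, h, funext fun j => ?_⟩
      simpa [vecMul, dotProduct, M, hk] using congr(B $hc (β (a j)))
    exact h3 (by rw [Int.cast_eq_zero.1 this, Int.cast_zero]))
  exact h4.fintype_card_le_finrank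

theorem exists_GL_BM (F : Type*) [Field F] :
    ∃ H : Subgroup (GL (Fin 4371) F), Nonempty (BM ≃* H) := by
  have := simple_BM
  let ι := {x // InD t0 x}
  let _ : MulAction HH ι :=
    { smul := fun c x => ⟨cj c x, x.2.conj' c.2⟩
      one_smul := fun w => Subtype.ext (by change cj 1 w = w; simp)
      mul_smul := fun a b w => Subtype.ext (cj_mul _ _ _) }
  have h0 : ∀ x y : ι, ∃ n : ℤ, (n : ℝ) = 32 * (FF x y - FF (t0 * x) y) := fun x y => by
    rcases classify ix_t0 x.2 y.2 with ⟨-, e, f⟩ | ⟨-, e, f⟩ | ⟨-, e, f⟩ | ⟨-, e, f⟩ | ⟨-, e, f⟩ |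
      ⟨-, e, f⟩ | ⟨-, e, f⟩ | ⟨-, e, f⟩ <;> rw [e, f]
    exacts [⟨28, by norm_num⟩, ⟨-28, by norm_num⟩, ⟨-4, by norm_num⟩, ⟨4, by norm_num⟩,
      ⟨0, by norm_num⟩, ⟨1, by norm_num⟩, ⟨-1, by norm_num⟩, ⟨0, by norm_num⟩]
  choose k hk using h0
  have hd : ∀ x, k x x = 28 := fun x => by
    have := hk x x
    rw [x.2.1.FF_self, x.2.FF_self ix_t0] at this
    exact Int.cast_injective (α := ℝ) (this.trans (by norm_num))
  have h1 := finrank_gram (F := F) (V := LinearMap.range P4) ((16 : ℝ) • bl.restrict _)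
    (fun x : ι => ⟨av x - av (t0 * x), _, P4_eq (x.2.beta ix_t0)⟩) k (fun x y => by
      obtain ⟨h1, h2, h3, h4⟩ := sys_top.FF_sym ix_t0 x.2 y.2
      rw [bl_comm] at h1 h2 h3 h4
      simp only [hk, LinearMap.smul_apply, LinearMap.BilinForm.restrict_apply, map_sub,
        LinearMap.sub_apply, LinearMap.domRestrict_apply, h1, h2, h3, h4, smul_eq_mul]
      ring) (fun x y => Int.cast_injective (α := ℝ) (by
      rw [hk, hk, ← y.2.FF_swap ix_t0 x.2, FF_comm y, FF_comm y]))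
  rw [finrank_P4] at h1
  obtain ⟨ρ, hρ⟩ := exists_rep (G := HH) (fun x y : ι => (k x y : F)) fun g x y =>
    congrArg _ (Int.cast_injective (α := ℝ) (by
      rw [hk, hk, ← FF_cj x.2.1 y.2.1 g, ← FF_cj x.2.2 y.2.1 g, map_mul, mem_HH.1 g.2]; rfl))
  obtain ⟨x, hx⟩ : ∃ x, InD t0 x := sys_top.exists_D ix_t0
  obtain ⟨y, hy, h⟩ := exists_val hx ((sys_top.count_B ix_t0 hx).2.2.2.trans_ne (by norm_num))
  obtain ⟨c, hc, e⟩ := trans_D hx hy
  obtain ⟨c', hc', e'⟩ := trans_D hx (hx.mul ix_t0)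
  refine exists_GL (G := BM) (N := 4371) (QuotientGroup.lift _ ρ fun g hg =>
    (hρ g).2 fun x => congrArg (fun x y : ι => (k x y : F)) (Subtype.ext (by
      rcases (mem_zpowers_iff_of_sq t0_sq).1 (mem_subgroupOf.1 hg) with e | e <;> change cj g x = x <;> rw [e]
      exacts [by simp, mul_inv_eq_iff_eq_mul.2 (x.2.comm ix_t0)]))) ?_ h1
  by_contra! hn
  have h2 := congrFun ((hρ _).1 (hn (piB ⟨c, hc⟩)) ⟨x, hx⟩) ⟨y, hy⟩
  have h3 := hk ⟨x, hx⟩ ⟨y, hy⟩
  have h4 : FF (t0 * x) y = 13 / 256 := by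
    rcases classify ix_t0 hx hy with e | e | e | e | e | e | e | e <;>
      first | exact e.2.2 | (exfalso; linarith [e.2.1])
  simp only [h, h4] at h3
  rw [show (⟨c, hc⟩ : HH) • (⟨x, hx⟩ : ι) = ⟨y, hy⟩ from Subtype.ext e, hd,
    show k ⟨x, hx⟩ ⟨y, hy⟩ = -1 from Int.cast_injective (α := ℝ) (h3.trans (by norm_num))] at h2
  have h5 := congrFun ((hρ _).1 (hn (piB ⟨c', hc'⟩)) ⟨x, hx⟩) ⟨x, hx⟩
  have h6 := hk ⟨t0 * x, hx.mul ix_t0⟩ ⟨x, hx⟩
  simp only [← mul_assoc, t0_sq, one_mul, hx.1.FF_self, hx.FF_self ix_t0] at h6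
  rw [show (⟨c', hc'⟩ : HH) • (⟨x, hx⟩ : ι) = ⟨t0 * x, hx.mul ix_t0⟩ from Subtype.ext e', hd,
    show k ⟨t0 * x, hx.mul ix_t0⟩ ⟨x, hx⟩ = -28 from
      Int.cast_injective (α := ℝ) (h6.trans (by norm_num))] at h5
  push_cast at h2 h5
  exact one_ne_zero (α := F) (by linear_combination 29 * h2 + 15 * h5)

theorem isoB_BM : Spor.IsoB BM := by
  obtain ⟨w, R, ψ, cl, N, g, h1, h2⟩ := H22.BF.bab_BM
  haveI : Finite BM := Nat.finite_of_card_ne_zero (by rw [card_BM]; norm_num)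
  haveI := simple_BM
  refine N.top (fun h => h2 ?_) h1 (isConj_of_conj rfl) h2
  rw [h.is_comm.comm g w, mul_inv_cancel_right]

theorem exists_rep4371 (F : Type*) [Field F] :
    ∃ ρ : Spor.BabyMonster →* GL (Fin 4371) F, Function.Injective ρ := by
  obtain ⟨H, ⟨e⟩⟩ := exists_GL_BM F
  obtain ⟨f⟩ := isoB_BM
  exact ⟨H.subtype.comp (f.symm.trans e).toMonoidHom,
    H.subtype_injective.comp (f.symm.trans e).injective⟩

end H7.B4
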